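import Mathlib
import Cfsg.Agent.H2.BG15.C
import Cfsg.Agent.H2.BG14.I
import Cfsg.Agent.Lib.Helper4.BG16B
import Cfsg.Agent.Lib.Helper4.BG14M
import Cfsg.Agent.Lib.Helper5.BG14Z4
import Cfsg.Agent.Lib.Helper7.BG14PF
import Cfsg.Agent.Lib.Helper8.BG15D
import Cfsg.Agent.S1353
import Cfsg.Agent.S1365
import Cfsg.Agent.S1370
import Cfsg.Agent.S1430

/-!
# B&G Section 16 (helper2), part A: common lemmas for S1381 / S1382 (blueprint Part 22)

(L-N) a nontrivial nilpotent Hall subgroup `V` of `M_σ` has `N_G(V) ≤ M`;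
(L-C) `C_{M'}(x) = K*` for `x ∈ K^#`; (L-S) `IsSelfNormalizingCyclic K K*`;
(L-P) the fields of `IsTypePWith M K · K*` that do not depend on the middle subgroup.
-/

set_option autoImplicit false
set_option linter.unusedVariables false
set_option linter.unusedSectionVars false
set_option linter.style.haveILetI false
set_option maxHeartbeats 1000000

open scoped commutatorElement Pointwise

namespace Cfsg.Agent.H2.BG16

open Cfsg Cfsg.Agent.Lib.Helper8.BGTen Cfsg.Agent.H2.BG11 Cfsg.Agent.H2.BG14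
open Cfsg.Agent.Lib.Helper7 (IsSylowIn exists_isSylowIn_ge)

universe u

variable {G : Type u} [Group G] [Finite G]

/-- `K` is a Hall subgroup of `M` -/
theorem coprime_card_relIndex_of_hall {π : Set ℕ} {K M : Subgroup G}
    (hK : Cfsg.IsPiHallOf π K M) : (Nat.card ↥K).Coprime (K.relIndex M) := by
  apply Nat.coprime_of_dvd
  intro p hp h1 h2
  exact hK.2.2 p hp (hK.2.1 p hp h1) h2

/-- `M = M' K` with `M' ∩ K = 1` -/
theorem isComplIn_commutator (hG : Cfsg.IsMinSimpleOddOrder G) {M K U : Subgroup G}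
    (hM : IsCoatom M) (hKU : Cfsg.IsSigmaDecomposition M K U) (hK1 : K ≠ ⊥) :
    Cfsg.IsComplIn ⁅M, M⁆ K M := by
  rw [(Cfsg.Agent.S1365.result hG M hM K U hKU hK1).1]
  refine ⟨sup_le hKU.compl.1 (sigmaCore_le M), hKU.hall.1, ?_, ?_⟩
  · rw [inf_comm]
    exact Cfsg.Agent.Lib.Helper5.BG14Z.K_inf_N hG hM hKU
  · intro m hm
    exact Cfsg.Agent.Lib.Helper5.BG14Z.exists_mul_N_K hKU hm

/-- (L-N): a nontrivial nilpotent Hall subgroup `V` of `M_σ` has `N_G(V) ≤ M` -/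
theorem normalizer_le_of_nilpotent_hall (hG : Cfsg.IsMinSimpleOddOrder G) {M V : Subgroup G}
    (hM : IsCoatom M) (hV : V ≤ Cfsg.sigmaCore M) (hV1 : V ≠ ⊥) (hnil : Group.IsNilpotent ↥V)
    (hc : (Nat.card ↥V).Coprime (V.relIndex (Cfsg.sigmaCore M))) :
    Subgroup.normalizer (V : Set G) ≤ M := by
  have hσM : Cfsg.sigmaCore M ≤ M := sigmaCore_le M
  have hVM : V ≤ M := hV.trans hσM
  have hcard1 : Nat.card ↥V ≠ 1 := fun h => hV1 (Subgroup.card_eq_one.mp h)
  obtain ⟨p, hp, hpd⟩ := Nat.exists_prime_and_dvd hcard1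
  haveI : Fact p.Prime := ⟨hp⟩
  have hpσ : p ∈ Cfsg.sigma M :=
    mem_sigma_of_dvd_sigmaCore hG hM hp (hpd.trans (Subgroup.card_dvd_of_le hV))
  obtain ⟨S, hS, -⟩ := exists_isSylowIn_ge (p := p) (Q := (⊥ : Subgroup G)) (H := V)
    (IsPGroup.of_bot) bot_le
  -- `S` is Sylow in `M_σ` and in `M`
  have hSσ : IsSylowIn p S (Cfsg.sigmaCore M) :=
    Cfsg.Agent.H2.BG15.isSylowIn_of_hall hV hc hpd hS
  have hcσ := coprime_card_relIndex_of_hall (sigmaCore_hallOf hG hM)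
  have hSM : IsSylowIn p S M :=
    Cfsg.Agent.H2.BG15.isSylowIn_of_hall hσM hcσ
      (hpd.trans (Subgroup.card_dvd_of_le hV)) hSσ
  refine le_trans ?_ (Cfsg.Agent.Lib.Helper8.BGTen.sigma_normalizer_le hpσ hSM)
  -- `S` is normal in `V`, hence characteristic
  have hSp : IsPGroup p ↥S := IsPGroup.of_card hS.2
  have hScop : (Nat.card ↥S).Coprime (S.relIndex V) := by
    rw [hS.2]
    apply Nat.Coprime.pow_left
    rw [Nat.Prime.coprime_iff_not_dvd hp]
    exact hS.not_dvd_relIndex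
  have hVS : V ≤ Subgroup.normalizer (S : Set G) :=
    Cfsg.Agent.H2.BG15.le_normalizer_of_hall_nilpotent hnil hS.1 hScop
  intro g hg
  apply Cfsg.Agent.H2.BG15.mem_normalizer_of_cj_eq
  have hgV : cj g V = V := Cfsg.Agent.H2.BG15.cj_eq_of_mem_normalizer hg
  have h1 : cj g S ≤ V := by rw [← hgV]; exact cj_mono g hS.1
  have h2 : V ≤ Subgroup.normalizer (cj g S : Set G) := by
    intro v hv
    apply Cfsg.Agent.H2.BG15.mem_normalizer_of_cj_eq
    have hv' : g⁻¹ * v * g ∈ V := by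
      have h3 := Subgroup.inv_mem _ hg
      rw [Subgroup.mem_normalizer_iff] at h3
      have := (h3 v).mp hv
      rwa [inv_inv] at this
    have h4 : cj (g⁻¹ * v * g) S = S := Cfsg.Agent.H2.BG15.cj_eq_of_mem_normalizer (hVS hv')
    calc cj v (cj g S) = cj (v * g) S := by rw [cj_mul]
      _ = cj (g * (g⁻¹ * v * g)) S := by congr 1; group
      _ = cj g (cj (g⁻¹ * v * g) S) := by rw [cj_mul]
      _ = cj g S := by rw [h4]
  have h3 : IsPGroup p ↥(cj g S) := hSp.map _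
  have hle : cj g S ≤ S := hS.normal_le h1 h2 h3
  apply Subgroup.eq_of_le_of_card_ge hle
  rw [show cj g S = S.map (MulAut.conj g).toMonoidHom from rfl,
    Subgroup.card_map_of_injective (MulAut.conj g).injective]

/-- (L-C): `C_{M'}(x) = K*` for `x ∈ K^#` -/
theorem commutator_inf_centralizer (hG : Cfsg.IsMinSimpleOddOrder G) {M K U : Subgroup G}
    (hM : IsCoatom M) (hKU : Cfsg.IsSigmaDecomposition M K U) (hK1 : K ≠ ⊥) {x : G} (hx : x ∈ K)
    (hx1 : x ≠ 1) : ⁅M, M⁆ ⊓ Subgroup.centralizer ({x} : Set G) = Ks M K := by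
  rw [(Cfsg.Agent.S1365.result hG M hM K U hKU hK1).1]
  have h30 := (Cfsg.Agent.S1430.result hG M hM K hKU.hall hK1).1 x hx hx1
  have h53 := Cfsg.Agent.S1353.result hG M hM K U hKU x hx hx1
  have hUM : U ≤ M := hKU.compl.1
  have hKM : K ≤ M := hKU.hall.1
  have hUσ : U ⊓ Cfsg.sigmaCore M = ⊥ := Cfsg.Agent.Lib.Helper5.BG14Z.U_inf_sigmaCore hKU
  apply le_antisymm
  · rintro g ⟨hgN, hgc⟩
    obtain ⟨u, hu, s, hs, rfl⟩ := Cfsg.Agent.Lib.Helper8.BG15.exists_mul_of_mem_sup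
      (A := U) (N := Cfsg.sigmaCore M) (hUM.trans (le_normalizer_sigmaCore M)) hgN
    have hcomm : x * (u * s) = (u * s) * x :=
      Subgroup.mem_centralizer_iff.mp hgc x (Set.mem_singleton x)
    have hu' : x * u * x⁻¹ ∈ U := (Subgroup.mem_normalizer_iff.mp (hKU.normal hx) u).mp hu
    have hs' : x * s * x⁻¹ ∈ Cfsg.sigmaCore M :=
      (Subgroup.mem_normalizer_iff.mp (le_normalizer_sigmaCore M (hKM hx)) s).mp hs
    have heq : (x * u * x⁻¹) * (x * s * x⁻¹) = u * s := by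
      have : (x * u * x⁻¹) * (x * s * x⁻¹) = x * (u * s) * x⁻¹ := by group
      rw [this, hcomm]; group
    have hmem : u⁻¹ * (x * u * x⁻¹) ∈ U ⊓ Cfsg.sigmaCore M := by
      refine ⟨U.mul_mem (U.inv_mem hu) hu', ?_⟩
      have : u⁻¹ * (x * u * x⁻¹) = s * (x * s * x⁻¹)⁻¹ := by
        have h1 : x * u * x⁻¹ = u * s * (x * s * x⁻¹)⁻¹ := by rw [← heq]; group
        rw [h1]; group
      rw [this]
      exact Subgroup.mul_mem _ hs (Subgroup.inv_mem _ hs')
    rw [hUσ, Subgroup.mem_bot] at hmem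
    have hux : x * u * x⁻¹ = u := by
      have := congrArg (fun t => u * t) hmem
      simpa using this
    have hsx : x * s * x⁻¹ = s := by
      rw [hux] at heq
      exact mul_left_cancel heq
    have hu1 : u = 1 := by
      have : u ∈ U ⊓ Subgroup.centralizer ({x} : Set G) := by
        refine ⟨hu, Subgroup.mem_centralizer_iff.mpr ?_⟩
        intro y hy
        rw [Set.mem_singleton_iff.mp hy]
        calc x * u = x * u * x⁻¹ * x := by group
          _ = u * x := by rw [hux]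
      rw [h53] at this
      exact Subgroup.mem_bot.mp this
    have hsK : s ∈ Cfsg.sigmaCore M ⊓ Subgroup.centralizer ({x} : Set G) := by
      refine ⟨hs, Subgroup.mem_centralizer_iff.mpr ?_⟩
      intro y hy
      rw [Set.mem_singleton_iff.mp hy]
      calc x * s = x * s * x⁻¹ * x := by group
        _ = s * x := by rw [hsx]
    rw [h30] at hsK
    rw [hu1, one_mul]
    exact hsK
  · refine le_inf (inf_le_left.trans le_sup_right) ?_
    exact inf_le_right.trans (Subgroup.centralizer_le (Set.singleton_subset_iff.mpr hx))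

/-- `K* ≠ 1` -/
theorem Ks_ne_bot' (hG : Cfsg.IsMinSimpleOddOrder G) {M K : Subgroup G} (hM : IsCoatom M)
    (hK : Cfsg.IsPiHallOf (Cfsg.kappa M) K M) (hK1 : K ≠ ⊥) : Ks M K ≠ ⊥ :=
  Cfsg.Agent.Lib.Helper5.BG14Z.Ks_ne_bot hG hM hK hK1
    (Cfsg.Agent.S1430.result hG M hM K hK hK1).1

/-- `K*` is cyclic -/
theorem isCyclic_Ks' (hG : Cfsg.IsMinSimpleOddOrder G) {M K : Subgroup G} (hM : IsCoatom M)
    (hK : Cfsg.IsPiHallOf (Cfsg.kappa M) K M) (hK1 : K ≠ ⊥) : IsCyclic ↥(Ks M K) :=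
  Cfsg.Agent.Lib.Helper4.BG14.Mem.isCyclic_star hG
    (⟨hM, hK, hK1, rfl⟩ : Cfsg.Agent.Lib.Helper4.BG14.Mem (K ⊔ Ks M K) M K)

/-- (L-S): `K`, `K*` form a self-normalizing cyclic subgroup -/
theorem isSelfNormalizingCyclic (hG : Cfsg.IsMinSimpleOddOrder G) {M K U : Subgroup G}
    (hM : IsCoatom M) (hKU : Cfsg.IsSigmaDecomposition M K U) (hK1 : K ≠ ⊥) :
    Cfsg.IsSelfNormalizingCyclic K (Ks M K) := by
  have hK := hKU.hall
  have hKs1 : Ks M K ≠ ⊥ := Ks_ne_bot' hG hM hK hK1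
  have hKsc : IsCyclic ↥(Ks M K) := isCyclic_Ks' hG hM hK hK1
  have hcyc : IsCyclic ↥(K ⊔ Ks M K) :=
    isCyclic_sup_of_comm hKU.cyclic hKsc (fun a ha b hb => comm_K_Ks ha hb)
      (coprime_K_Ks hG hM hK)
  obtain ⟨hTI, hN⟩ := Cfsg.Agent.S1370.result hG M hM K U hKU hK1
  refine ⟨hK1, hKs1, K_inf_Ks hG hM hK, fun a ha b hb => comm_K_Ks ha hb, hcyc, ?_⟩
  intro X hX hXne
  have hcomm : ∀ a ∈ K ⊔ Ks M K, ∀ b ∈ K ⊔ Ks M K, a * b = b * a := by
    intro a ha b hb
    haveI := hcyc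
    letI : CommGroup ↥(K ⊔ Ks M K) := IsCyclic.commGroup
    have := mul_comm (⟨a, ha⟩ : ↥(K ⊔ Ks M K)) ⟨b, hb⟩
    exact congrArg Subtype.val this
  apply le_antisymm
  · intro g hg
    by_contra hgZ
    rw [← hN] at hgZ
    obtain ⟨x, hx⟩ := hXne
    have hgx : g * x * g⁻¹ ∈ X := (Subgroup.mem_set_normalizer_iff.mp hg x).mp hx
    have hx1 : x = 1 := hTI g hgZ x (hX hx) (hX hgx)
    have := (hX hx).2
    apply this
    left
    rw [hx1]
    exact K.one_mem
  · intro z hz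
    rw [Subgroup.mem_set_normalizer_iff]
    intro h
    constructor
    · intro hh
      have hhZ : h ∈ K ⊔ Ks M K := (hX hh).1
      have : z * h * z⁻¹ = h := by rw [hcomm z hz h hhZ]; group
      rw [this]; exact hh
    · intro hh
      have hhZ : z * h * z⁻¹ ∈ K ⊔ Ks M K := (hX hh).1
      have hhZ' : h ∈ K ⊔ Ks M K := by
        have := Subgroup.mul_mem _ (Subgroup.mul_mem _ (Subgroup.inv_mem _ hz) hhZ) hz
        have e : z⁻¹ * (z * h * z⁻¹) * z = h := by group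
        rwa [e] at this
      have : z * h * z⁻¹ = h := by rw [hcomm z hz h hhZ']; group
      rw [this] at hh; exact hh

/-- if `g` normalizes `A` and `A` normalizes `B` then `A` normalizes `B^g` -/
theorem le_normalizer_cj {g : G} {A B : Subgroup G} (hg : g ∈ Subgroup.normalizer (A : Set G))
    (h : A ≤ Subgroup.normalizer (B : Set G)) : A ≤ Subgroup.normalizer (cj g B : Set G) := by
  intro v hv
  apply Cfsg.Agent.H2.BG15.mem_normalizer_of_cj_eq
  have hv' : g⁻¹ * v * g ∈ A := by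
    have h3 := Subgroup.inv_mem _ hg
    rw [Subgroup.mem_normalizer_iff] at h3
    have := (h3 v).mp hv
    rwa [inv_inv] at this
  have h4 : cj (g⁻¹ * v * g) B = B := Cfsg.Agent.H2.BG15.cj_eq_of_mem_normalizer (h hv')
  calc cj v (cj g B) = cj (v * g) B := by rw [cj_mul]
    _ = cj (g * (g⁻¹ * v * g)) B := by congr 1; group
    _ = cj g (cj (g⁻¹ * v * g) B) := by rw [cj_mul]
    _ = cj g B := by rw [h4]

theorem card_cj (g : G) (A : Subgroup G) : Nat.card ↥(cj g A) = Nat.card ↥A := by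
  rw [show cj g A = A.map (MulAut.conj g).toMonoidHom from rfl,
    Subgroup.card_map_of_injective (MulAut.conj g).injective]

/-- `X_F` is characteristic in `X` -/
theorem normalizer_le_normalizer_fittingHallOf (X : Subgroup G) :
    Subgroup.normalizer (X : Set G) ≤ Subgroup.normalizer (Cfsg.fittingHallOf X : Set G) := by
  intro g hg
  apply Cfsg.Agent.H2.BG15.mem_normalizer_of_cj_eq
  have hgX : cj g X = X := Cfsg.Agent.H2.BG15.cj_eq_of_mem_normalizer hg
  have hNX : Cfsg.fittingHallOf X ≤ X := Cfsg.Agent.Lib.Helper4.TypeP.fittingHallOf_le X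
  have h1 : cj g (Cfsg.fittingHallOf X) ≤ X := (cj_mono g hNX).trans hgX.le
  have h2 : X ≤ Subgroup.normalizer (cj g (Cfsg.fittingHallOf X) : Set G) :=
    le_normalizer_cj hg (Cfsg.Agent.Lib.Helper4.TypeP.le_normalizer_fittingHallOf X)
  have h3 : Group.IsNilpotent ↥(cj g (Cfsg.fittingHallOf X)) := by
    haveI := Cfsg.Agent.Lib.Helper4.TypeP.fittingHallOf_nilpotent X
    exact Group.nilpotent_of_mulEquiv ((Cfsg.fittingHallOf X).equivMapOfInjective
      (MulAut.conj g).toMonoidHom (MulAut.conj g).injective)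
  have h4 : (Nat.card ↥(cj g (Cfsg.fittingHallOf X))).Coprime
      ((cj g (Cfsg.fittingHallOf X)).relIndex X) := by
    have e1 := Cfsg.Agent.H1.card_eq_relIndex_mul_card h1
    have e2 := Cfsg.Agent.H1.card_eq_relIndex_mul_card hNX
    rw [card_cj] at e1 ⊢
    have hpos : 0 < Nat.card ↥(Cfsg.fittingHallOf X) := Nat.card_pos
    have e3 : (cj g (Cfsg.fittingHallOf X)).relIndex X = (Cfsg.fittingHallOf X).relIndex X := by
      have : (cj g (Cfsg.fittingHallOf X)).relIndex X * Nat.card ↥(Cfsg.fittingHallOf X) =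
          (Cfsg.fittingHallOf X).relIndex X * Nat.card ↥(Cfsg.fittingHallOf X) := by
        rw [← e1, ← e2]
      exact Nat.eq_of_mul_eq_mul_right hpos this
    rw [e3]
    exact Cfsg.Agent.Lib.Helper4.TypeP.fittingHallOf_coprime X
  have hle := Cfsg.Agent.Lib.Helper4.TypeP.le_fittingHallOf h1 h2 h3 h4
  exact Subgroup.eq_of_le_of_card_ge hle (by rw [card_cj])

/-- a Hall subgroup of a Hall subgroup -/
theorem coprime_relIndex_trans {A B C : Subgroup G} (hAB : A ≤ B) (hBC : B ≤ C)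
    (h1 : (Nat.card ↥A).Coprime (A.relIndex B)) (h2 : (Nat.card ↥B).Coprime (B.relIndex C)) :
    (Nat.card ↥A).Coprime (A.relIndex C) := by
  rw [← Subgroup.relIndex_mul_relIndex A B C hAB hBC]
  exact Nat.Coprime.mul_right h1
    (Nat.Coprime.coprime_dvd_left (Subgroup.card_dvd_of_le hAB) h2)

theorem coprime_relIndex_of_le {A B C : Subgroup G} (hAB : A ≤ B) (hBC : B ≤ C)
    (h : (Nat.card ↥A).Coprime (A.relIndex C)) : (Nat.card ↥A).Coprime (A.relIndex B) := by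
  rw [← Subgroup.relIndex_mul_relIndex A B C hAB hBC] at h
  exact Nat.Coprime.coprime_dvd_right (Dvd.intro _ rfl) h

/-- `(M')_F = M_F` when `K ≠ 1` -/
theorem fittingHallOf_commutator (hG : Cfsg.IsMinSimpleOddOrder G) {M K U : Subgroup G}
    (hM : IsCoatom M) (hKU : Cfsg.IsSigmaDecomposition M K U) (hK1 : K ≠ ⊥) :
    Cfsg.fittingHallOf ⁅M, M⁆ = Cfsg.fittingHallOf M := by
  have hc := isComplIn_commutator hG hM hKU hK1
  have hM'M : (⁅M, M⁆ : Subgroup G) ≤ M := hc.1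
  have hcard := Cfsg.Agent.Lib.BG127H7.card_of_isComplIn hc
  have hcopK := coprime_card_relIndex_of_hall hKU.hall
  have hKrel : K.relIndex M = Nat.card ↥(⁅M, M⁆ : Subgroup G) := by
    have h2 := Cfsg.Agent.H1.card_eq_relIndex_mul_card hKU.hall.1
    have hpos : 0 < Nat.card ↥K := Nat.card_pos
    have : K.relIndex M * Nat.card ↥K = Nat.card ↥(⁅M, M⁆ : Subgroup G) * Nat.card ↥K := by
      rw [← h2, hcard]
    exact Nat.eq_of_mul_eq_mul_right hpos this
  have hM'rel : (⁅M, M⁆ : Subgroup G).relIndex M = Nat.card ↥K := by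
    have h2 := Cfsg.Agent.H1.card_eq_relIndex_mul_card hM'M
    have hpos : 0 < Nat.card ↥(⁅M, M⁆ : Subgroup G) := Nat.card_pos
    have : (⁅M, M⁆ : Subgroup G).relIndex M * Nat.card ↥(⁅M, M⁆ : Subgroup G) =
        Nat.card ↥K * Nat.card ↥(⁅M, M⁆ : Subgroup G) := by
      rw [← h2, hcard, mul_comm]
    exact Nat.eq_of_mul_eq_mul_right hpos this
  have hM'hall : (Nat.card ↥(⁅M, M⁆ : Subgroup G)).Coprime ((⁅M, M⁆ : Subgroup G).relIndex M) := by
    rw [hM'rel, ← hKrel]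
    exact hcopK.symm
  apply le_antisymm
  · apply Cfsg.Agent.Lib.Helper4.TypeP.le_fittingHallOf
      ((Cfsg.Agent.Lib.Helper4.TypeP.fittingHallOf_le _).trans hM'M)
      ((Cfsg.Agent.H2.BG13.le_normalizer_commutator M).trans
        (normalizer_le_normalizer_fittingHallOf _))
      (Cfsg.Agent.Lib.Helper4.TypeP.fittingHallOf_nilpotent _)
    exact coprime_relIndex_trans (Cfsg.Agent.Lib.Helper4.TypeP.fittingHallOf_le _) hM'M
      (Cfsg.Agent.Lib.Helper4.TypeP.fittingHallOf_coprime _) hM'hall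
  · have hFM' : Cfsg.fittingHallOf M ≤ ⁅M, M⁆ :=
      (Cfsg.Agent.Lib.Helper8.BG15.fittingHallOf_le_sigmaCore hG hM).trans
        (Cfsg.Agent.Lib.Helper5.BGBeta.sigmaCore_le_commutator hG (Cfsg.Agent.H2.BG11.uniq hG) hM)
    apply Cfsg.Agent.Lib.Helper4.TypeP.le_fittingHallOf hFM'
      (hM'M.trans (Cfsg.Agent.Lib.Helper4.TypeP.le_normalizer_fittingHallOf M))
      (Cfsg.Agent.Lib.Helper4.TypeP.fittingHallOf_nilpotent _)
    exact coprime_relIndex_of_le hFM' hM'M (Cfsg.Agent.Lib.Helper4.TypeP.fittingHallOf_coprime M)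

/-- (L-P): the type-`𝒫` data `(K, U₂, K*)` -/
theorem isTypePWith_of (hG : Cfsg.IsMinSimpleOddOrder G) {M K U U₂ : Subgroup G}
    (hM : IsCoatom M) (hKU : Cfsg.IsSigmaDecomposition M K U) (hK1 : K ≠ ⊥)
    (h56 : ⁅⁅M, M⁆, ⁅M, M⁆⁆ ≤ Cfsg.fittingOf M ∧
      Cfsg.fittingOf M = (M ⊓ Subgroup.centralizer (Cfsg.fittingHallOf M : Set G)) ⊔
        Cfsg.fittingHallOf M ∧
      ((Cfsg.kappa M).Nonempty → Cfsg.fittingOf M ≤ ⁅M, M⁆))
    (hKsF : Ks M K ≤ Cfsg.fittingHallOf M)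
    (hnil : Group.IsNilpotent ↥U₂) (hn : K ≤ Subgroup.normalizer (U₂ : Set G))
    (hc : Cfsg.IsComplIn (Cfsg.fittingHallOf M) U₂ ⁅M, M⁆) :
    Cfsg.IsTypePWith M K U₂ (Ks M K) where
  W₁_ne := hK1
  W₁_cyclic := hKU.cyclic
  W₁_hall := coprime_card_relIndex_of_hall hKU.hall
  W₁_compl := isComplIn_commutator hG hM hKU hK1
  U_nilpotent := hnil
  U_normal := hn
  U_compl := hc
  H_not_cyclic := Cfsg.Agent.Lib.Helper4.BG14.Mem.not_isCyclic_fittingHallOf hG
    (⟨hM, hKU.hall, hK1, rfl⟩ : Cfsg.Agent.Lib.Helper4.BG14.Mem (K ⊔ Ks M K) M K) hKsF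
  derived_two_le := by rw [sup_comm, ← h56.2.1]; exact h56.1
  fitting_eq := by rw [sup_comm]; exact h56.2.1.symm
  fitting_le := by
    apply h56.2.2
    have hcard1 : Nat.card ↥K ≠ 1 := fun h => hK1 (Subgroup.card_eq_one.mp h)
    obtain ⟨p, hp, hpd⟩ := Nat.exists_prime_and_dvd hcard1
    exact ⟨p, hKU.hall.2.1 p hp hpd⟩
  W₂_le := le_inf hKsF (Cfsg.Agent.S1365.result hG M hM K U hKU hK1).2
  W₂_centralizer := fun x hx hx1 => commutator_inf_centralizer hG hM hKU hK1 hx hx1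
  selfNormalizing := isSelfNormalizingCyclic hG hM hKU hK1

end Cfsg.Agent.H2.BG16
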