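import Mathlib
import Cfsg.Agent.H2.BG16.A
import Cfsg.Agent.Lib.Helper4.BG14I

/-!
# B&G Section 16 (helper2), part B: S1381 (Type II ⟺ `K ≠ 1 ∧ U ≠ 1`)

The direction (⇒) is unconditional; (⇐) takes as hypotheses the TI-property of `F(M)` (clause 2 of
S1372) and the subgroup `U₀` of S1360.
-/

set_option autoImplicit false
set_option linter.unusedVariables false
set_option linter.unusedSectionVars false
set_option linter.style.haveILetI false
set_option maxHeartbeats 1000000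

open scoped commutatorElement Pointwise

namespace Cfsg.Agent.H2.BG16

open Cfsg Cfsg.Agent.Lib.Helper8.BGTen Cfsg.Agent.H2.BG11 Cfsg.Agent.H2.BG14
open Cfsg.Agent.Lib.Helper7 (IsSylowIn exists_isSylowIn_ge)

universe u

variable {G : Type u} [Group G] [Finite G]

/-- (L-κ): type-`𝒫` data force `K ≠ 1` -/
theorem K_ne_bot_of_typeP (hG : Cfsg.IsMinSimpleOddOrder G) {M K W₁ U₂ W₂ : Subgroup G}
    (hM : IsCoatom M) (hK : Cfsg.IsPiHallOf (Cfsg.kappa M) K M)
    (hP : Cfsg.IsTypePWith M W₁ U₂ W₂) : K ≠ ⊥ := by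
  intro h0
  have hW1 : Nat.card ↥W₁ ≠ 1 := fun h1 => hP.W₁_ne (Subgroup.card_eq_one.mp h1)
  obtain ⟨p, hp, hpd⟩ := Nat.exists_prime_and_dvd hW1
  have hκ := Cfsg.Agent.Lib.Helper4.BG16.kappa_of_typeP hG hM hP hp hpd
  have h1 := hK.2.2 p hp hκ
  rw [h0, Subgroup.relIndex_bot_left] at h1
  exact h1 hκ.2.1

/-- a complement `B` of a Hall subgroup `A` of `M` inside `N ≤ M` is a Hall subgroup of `N` -/
theorem coprime_of_isComplIn_hall {A B N M : Subgroup G} (hc : Cfsg.IsComplIn A B N) (hNM : N ≤ M)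
    (hA : (Nat.card ↥A).Coprime (A.relIndex M)) : (Nat.card ↥B).Coprime (B.relIndex N) := by
  have hcard := Cfsg.Agent.Lib.BG127H7.card_of_isComplIn hc
  have h1 := Cfsg.Agent.H1.card_eq_relIndex_mul_card hc.1
  have h2 := Cfsg.Agent.H1.card_eq_relIndex_mul_card hc.2.1
  have hposA : 0 < Nat.card ↥A := Nat.card_pos
  have hposB : 0 < Nat.card ↥B := Nat.card_pos
  have e1 : A.relIndex N = Nat.card ↥B := by
    have : A.relIndex N * Nat.card ↥A = Nat.card ↥B * Nat.card ↥A := by rw [← h1, hcard, mul_comm]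
    exact Nat.eq_of_mul_eq_mul_right hposA this
  have e2 : B.relIndex N = Nat.card ↥A := by
    have : B.relIndex N * Nat.card ↥B = Nat.card ↥A * Nat.card ↥B := by rw [← h2, hcard]
    exact Nat.eq_of_mul_eq_mul_right hposB this
  have h3 := coprime_relIndex_of_le hc.1 hNM hA
  rw [e1] at h3
  rw [e2]
  exact h3.symm

/-- **S1381 (⇒)** -/
theorem s1381_mp (hG : Cfsg.IsMinSimpleOddOrder G) {M K U : Subgroup G} (hM : IsCoatom M)
    (hKU : Cfsg.IsSigmaDecomposition M K U) (h : Cfsg.IsOfTypeII M) : K ≠ ⊥ ∧ U ≠ ⊥ := by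
  obtain ⟨W₁, U₂, W₂, hP, hU₂, hW₁p, hTI, hab, hN, hF, hFH⟩ := h
  have hK1 : K ≠ ⊥ := K_ne_bot_of_typeP hG hM hKU.hall hP
  refine ⟨hK1, ?_⟩
  intro hU
  apply hN
  have h65 := (Cfsg.Agent.S1365.result hG M hM K U hKU hK1).1
  rw [hU, bot_sup_eq] at h65
  have hc := hP.U_compl
  rw [h65] at hc
  exact normalizer_le_of_nilpotent_hall hG hM hc.2.1 hU₂ hP.U_nilpotent
    (coprime_of_isComplIn_hall hc (sigmaCore_le M)
      (Cfsg.Agent.Lib.Helper4.TypeP.fittingHallOf_coprime M))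

omit [Finite G] in
theorem map_subtype_top (X : Subgroup G) : (⊤ : Subgroup ↥X).map X.subtype = X := by
  rw [← MonoidHom.range_eq_map, Subgroup.range_subtype]

/-- a recipe for `IsOfTypeF ↥X` from data in the ambient group -/
theorem isOfTypeF_of {X H U U₀ : Subgroup G} (hsolv : Group.IsSolvable ↥X)
    (hodd : Odd (Nat.card ↥X)) (hH : Cfsg.fittingHallOf X = H) (hH1 : H ≠ ⊥) (hU1 : U ≠ ⊥)
    (hc : Cfsg.IsComplIn H U X) (hab : ∀ a ∈ U, ∀ b ∈ U, a * b = b * a)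
    (hU₀ : U₀ ≤ U) (hexp : Monoid.exponent ↥U₀ = Monoid.exponent ↥U)
    (hreg : ∀ u ∈ U₀, u ≠ 1 → ∀ x ∈ H, u * x = x * u → x = 1) : Cfsg.IsOfTypeF ↥X := by
  obtain ⟨hHX, hUX, hHU, hprod⟩ := hc
  have hFH : Cfsg.fittingHall ↥X = H.subgroupOf X := by
    rw [← hH, Cfsg.Agent.Lib.Helper4.TypeP.subgroupOf_fittingHallOf]
  have hmemF : ∀ x : ↥X, x ∈ Cfsg.fittingHall ↥X ↔ (x : G) ∈ H := by
    intro x; rw [hFH]; exact Subgroup.mem_subgroupOf
  refine ⟨hsolv, hodd, ?_, ?_, U.subgroupOf X, ?_, ?_, ?_, ?_⟩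
  · intro h0
    apply hH1
    rw [← hH]
    show (Cfsg.fittingHall ↥X).map X.subtype = ⊥
    rw [h0, Subgroup.map_bot]
  · intro h0
    apply hU1
    have hHX' : H = X := by
      rw [← hH]
      show (Cfsg.fittingHall ↥X).map X.subtype = X
      rw [h0, map_subtype_top]
    rw [eq_bot_iff, ← hHU, hHX']
    exact le_inf hUX le_rfl
  · intro h0
    apply hU1
    rw [Subgroup.subgroupOf_eq_bot] at h0
    rw [eq_bot_iff]
    intro x hx
    exact Subgroup.mem_bot.mpr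
      (Subgroup.disjoint_def.mp h0 hx (hUX hx))
  · apply Subgroup.isComplement'_of_card_mul_and_disjoint
    · rw [hFH, Cfsg.Agent.Lib.Helper7.card_subgroupOf_of_le hHX,
        Cfsg.Agent.Lib.Helper7.card_subgroupOf_of_le hUX]
      exact (Cfsg.Agent.Lib.BG127H7.card_of_isComplIn ⟨hHX, hUX, hHU, hprod⟩).symm
    · rw [Subgroup.disjoint_def]
      intro x hx1 hx2
      have h1 : (x : G) ∈ H := (hmemF x).mp hx1
      have h2 : (x : G) ∈ U := Subgroup.mem_subgroupOf.mp hx2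
      have : (x : G) ∈ H ⊓ U := ⟨h1, h2⟩
      rw [hHU, Subgroup.mem_bot] at this
      exact Subtype.ext this
  · refine ⟨U.subgroupOf X, le_rfl, Subgroup.le_normalizer, ?_, fun x _ _ => inf_le_left⟩
    refine ⟨⟨fun a b => ?_⟩⟩
    apply Subtype.ext
    apply Subtype.ext
    exact hab _ (Subgroup.mem_subgroupOf.mp a.2) _ (Subgroup.mem_subgroupOf.mp b.2)
  · refine ⟨U₀.subgroupOf X, ?_, ?_, ?_⟩
    · intro x hx
      exact Subgroup.mem_subgroupOf.mpr (hU₀ (Subgroup.mem_subgroupOf.mp hx))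
    · rw [Monoid.exponent_eq_of_mulEquiv (Subgroup.subgroupOfEquivOfLe (hU₀.trans hUX)),
        Monoid.exponent_eq_of_mulEquiv (Subgroup.subgroupOfEquivOfLe hUX)]
      exact hexp
    · intro u hu hu1 x hx hux
      have h1 : (u : G) ∈ U₀ := Subgroup.mem_subgroupOf.mp hu
      have h2 : (u : G) ≠ 1 := fun h => hu1 (Subtype.ext h)
      have h3 : (x : G) ∈ H := (hmemF x).mp hx
      have h4 : (u : G) * (x : G) = (x : G) * (u : G) := by
        have := congrArg Subtype.val hux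
        simpa using this
      exact Subtype.ext (hreg _ h1 h2 _ h3 h4)

/-- **S1381 (⇐)**, given the TI-property of `F(M)` (S1372) and the subgroup `U₀` of S1360 -/
theorem s1381_mpr (hG : Cfsg.IsMinSimpleOddOrder G) {M K U : Subgroup G} (hM : IsCoatom M)
    (hKU : Cfsg.IsSigmaDecomposition M K U) (hK1 : K ≠ ⊥) (hU1 : U ≠ ⊥)
    (hTI : Cfsg.IsTISubset (Cfsg.fittingOf M : Set G))
    (h60 : ∃ U₀ : Subgroup G, U₀ ≤ U ∧ Monoid.exponent ↥U₀ = Monoid.exponent ↥U ∧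
      ∀ u ∈ U₀, u ∈ Cfsg.sigmaHat M → u = 1) :
    Cfsg.IsOfTypeII M := by
  have hnil := Cfsg.Agent.Lib.Helper7.BG14P.nilpotent_of_U_ne_bot hG hM hKU hU1
  have hF : Cfsg.sigmaCore M = Cfsg.fittingHallOf M :=
    Cfsg.Agent.Lib.helper3.BG14.sigmaCore_eq_fittingHallOf hG hM hnil
  have h56 := Cfsg.Agent.Lib.Helper8.BG15.s1356_of_nilpotent hG M hM hnil
  have h63 := Cfsg.Agent.Lib.Helper7.BG14P.s1363 hG hM hKU hK1
  have h65 := Cfsg.Agent.S1365.result hG M hM K U hKU hK1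
  have hKp := Cfsg.Agent.Lib.Helper4.BG14.card_prime_of_isSigmaDecomposition hG hM hKU hK1 hU1
  have hUM : U ≤ M := hKU.compl.1
  have hab : ∀ a ∈ U, ∀ b ∈ U, a * b = b * a := by
    intro a ha b hb
    haveI := h63.1
    have := mul_comm' (⟨a, ha⟩ : ↥U) ⟨b, hb⟩
    exact congrArg Subtype.val this
  have hUnil : Group.IsNilpotent ↥U := by
    letI : CommGroup ↥U := { (inferInstance : Group ↥U) with
      mul_comm := fun a b => Subtype.ext (hab a a.2 b b.2) }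
    exact CommGroup.isNilpotent
  have hUσ : U ⊓ Cfsg.sigmaCore M = ⊥ := Cfsg.Agent.Lib.Helper5.BG14Z.U_inf_sigmaCore hKU
  have hcU : Cfsg.IsComplIn (Cfsg.sigmaCore M) U ⁅M, M⁆ := by
    rw [h65.1]
    refine ⟨le_sup_right, le_sup_left, by rw [inf_comm]; exact hUσ, ?_⟩
    intro m hm
    rw [sup_comm] at hm
    exact (Cfsg.Agent.H1.mem_sup_of_le_normalizer (Cfsg.sigmaCore M) U
      (hUM.trans (le_normalizer_sigmaCore M))).mp hm
  have hKsF : Ks M K ≤ Cfsg.fittingHallOf M := by rw [← hF]; exact inf_le_left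
  have hP : Cfsg.IsTypePWith M K U (Ks M K) :=
    isTypePWith_of hG hM hKU hK1 h56 hKsF hUnil hKU.normal (hF ▸ hcU)
  have hFH := fittingHallOf_commutator hG hM hKU hK1
  refine ⟨K, U, Ks M K, hP, hU1, hKp, hTI, h63.1, h63.2, ?_, hFH⟩
  obtain ⟨U₀, hU₀, hexp, hreg⟩ := h60
  have hM'M : (⁅M, M⁆ : Subgroup G) ≤ M := hP.W₁_compl.1
  have hsolvM : Group.IsSolvable ↥M := hG.2.2.2 M hM.1
  have hsolv : Group.IsSolvable ↥(⁅M, M⁆ : Subgroup G) :=
    Group.isSolvable_of_isSolvable_injective (Subgroup.inclusion_injective hM'M)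
  refine isOfTypeF_of hsolv (odd_card_subgroup hG _) (hFH.trans hF.symm)
    (Cfsg.Agent.Lib.helper3.BG11.sigmaCore_ne_bot hG hM) hU1 hcU hab hU₀ hexp ?_
  intro u hu hu1 x hx hux
  by_contra hx1
  exact hu1 (hreg u hu ⟨hUM (hU₀ hu), x, hx, hx1, hux⟩)

end Cfsg.Agent.H2.BG16
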