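import Mathlib
import Cfsg.Agent.H2.BG16.B

/-!
# B&G Section 16 (helper2), part C: S1382 (Type III or IV ⟺ `K ≠ 1 ∧ U = 1 ∧ M_F ≠ M_σ`)

The direction (⇒) is unconditional; (⇐) takes as hypotheses the needed parts of S1437, the
TI-property of `F(M)` (S1357) and the conclusion of S1356 for `M`.
-/

set_option autoImplicit false
set_option linter.unusedVariables false
set_option linter.unusedSectionVars false
set_option linter.style.haveILetI false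
set_option maxHeartbeats 1000000

open scoped commutatorElement Pointwise

namespace Cfsg.Agent.H2.BG16

open Cfsg Cfsg.Agent.Lib.Helper8.BGTen Cfsg.Agent.H2.BG11 Cfsg.Agent.H2.BG14
open Cfsg.Agent.Lib.Helper7 (IsSylowIn exists_isSylowIn_ge)

universe u

variable {G : Type u} [Group G] [Finite G]

/-- **S1382 (⇒)** -/
theorem s1382_mp (hG : Cfsg.IsMinSimpleOddOrder G) {M K U : Subgroup G} (hM : IsCoatom M)
    (hKU : Cfsg.IsSigmaDecomposition M K U) (h : Cfsg.IsOfTypeIII M ∨ Cfsg.IsOfTypeIV M) :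
    K ≠ ⊥ ∧ U = ⊥ ∧ Cfsg.fittingHallOf M ≠ Cfsg.sigmaCore M := by
  obtain ⟨W₁, U₂, W₂, hP, hU₂, hN⟩ : ∃ W₁ U₂ W₂ : Subgroup G, Cfsg.IsTypePWith M W₁ U₂ W₂ ∧
      U₂ ≠ ⊥ ∧ Subgroup.normalizer (U₂ : Set G) ≤ M := by
    rcases h with ⟨W₁, U₂, W₂, hP, hU₂, -, -, -, hN⟩ | ⟨W₁, U₂, W₂, hP, hU₂, -, -, -, hN⟩
    · exact ⟨W₁, U₂, W₂, hP, hU₂, hN⟩
    · exact ⟨W₁, U₂, W₂, hP, hU₂, hN⟩
  have hK1 := K_ne_bot_of_typeP hG hM hKU.hall hP
  have h63 : ∀ K U : Subgroup G, Cfsg.IsSigmaDecomposition M K U → K ≠ ⊥ →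
      ¬ Subgroup.normalizer (U : Set G) ≤ M := fun K U hKU hK1 =>
    (Cfsg.Agent.Lib.Helper7.BG14P.s1363 hG hM hKU hK1).2
  have hle := Cfsg.Agent.Lib.Helper4.BG16.commutator_le_sigmaCore_of_normalizer_le hG hM h63 hP hN
  have h65 := (Cfsg.Agent.S1365.result hG M hM K U hKU hK1).1
  have hU : U = ⊥ := by
    rw [eq_bot_iff, ← Cfsg.Agent.Lib.Helper5.BG14Z.U_inf_sigmaCore hKU]
    refine le_inf le_rfl ?_
    calc U ≤ U ⊔ Cfsg.sigmaCore M := le_sup_left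
      _ = ⁅M, M⁆ := h65.symm
      _ ≤ Cfsg.sigmaCore M := hle
  refine ⟨hK1, hU, ?_⟩
  intro hF
  apply hU₂
  have hc := hP.U_compl
  rw [eq_bot_iff, ← hc.2.2.1]
  refine le_inf ?_ le_rfl
  rw [hF]
  exact hc.2.1.trans hle

/-- arithmetic: the order of a Hall `π(f)'`-subgroup -/
theorem hall_arith {f j u i : ℕ} (h1 : j * f = i * u) (hfj : f.Coprime j)
    (hu : ∀ p : ℕ, p.Prime → p ∣ u → ¬ p ∣ f) (hi : ∀ p : ℕ, p.Prime → p ∣ i → p ∣ f) :
    u = j := by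
  have huf : u.Coprime f := by
    apply Nat.coprime_of_dvd
    intro p hp h2 h3
    exact hu p hp h2 h3
  have hji : j.Coprime i := by
    apply Nat.coprime_of_dvd
    intro p hp h2 h3
    have h4 := Nat.dvd_gcd (hi p hp h3) h2
    rw [hfj] at h4
    exact hp.one_lt.ne' (Nat.dvd_one.mp h4)
  have h2 : u ∣ j := by
    apply huf.dvd_of_dvd_mul_right
    rw [h1]
    exact Dvd.intro_left i rfl
  have h3 : j ∣ u := by
    apply hji.dvd_of_dvd_mul_left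
    rw [← h1]
    exact Dvd.intro f rfl
  exact Nat.dvd_antisymm h2 h3

/-- **S1382 (⇐)**, given the needed parts of S1437, the TI-property of `F(M)` (S1357) and
S1356 for `M` -/
theorem s1382_mpr (hG : Cfsg.IsMinSimpleOddOrder G) {M K U : Subgroup G} (hM : IsCoatom M)
    (hKU : Cfsg.IsSigmaDecomposition M K U) (hK1 : K ≠ ⊥) (hU : U = ⊥)
    (hne : Cfsg.fittingHallOf M ≠ Cfsg.sigmaCore M)
    (hKp : (Nat.card ↥K).Prime) (hq : (Nat.card ↥(Ks M K)).Prime)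
    (hQ : ∃ Q : Subgroup G, Q ≤ Cfsg.fittingHallOf M ∧ M ≤ Subgroup.normalizer (Q : Set G) ∧
      IsPGroup (Nat.card ↥(Ks M K)) ↥Q ∧ ¬ Nat.card ↥(Ks M K) ∣ Q.relIndex (Cfsg.sigmaCore M) ∧
      ∀ D : Subgroup G, Cfsg.IsComplIn Q D (Cfsg.sigmaCore M) → Group.IsNilpotent ↥D)
    (hTI : Cfsg.IsTISubset (Cfsg.fittingOf M : Set G))
    (h56 : ⁅⁅M, M⁆, ⁅M, M⁆⁆ ≤ Cfsg.fittingOf M ∧
      Cfsg.fittingOf M = (M ⊓ Subgroup.centralizer (Cfsg.fittingHallOf M : Set G)) ⊔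
        Cfsg.fittingHallOf M ∧
      ((Cfsg.kappa M).Nonempty → Cfsg.fittingOf M ≤ ⁅M, M⁆)) :
    Cfsg.IsOfTypeIII M ∨ Cfsg.IsOfTypeIV M := by
  obtain ⟨Q, hQF, hMQ, hQp, hQi, hD⟩ := hQ
  set q := Nat.card ↥(Ks M K) with hqdef
  have hσM : Cfsg.sigmaCore M ≤ M := sigmaCore_le M
  have hKM : K ≤ M := hKU.hall.1
  have hFσ : Cfsg.fittingHallOf M ≤ Cfsg.sigmaCore M :=
    Cfsg.Agent.Lib.Helper8.BG15.fittingHallOf_le_sigmaCore hG hM
  have hQσ : Q ≤ Cfsg.sigmaCore M := hQF.trans hFσ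
  have h65 := (Cfsg.Agent.S1365.result hG M hM K U hKU hK1).1
  rw [hU, bot_sup_eq] at h65
  -- `K* ≤ Q ≤ M_F`
  have hKsQ : Ks M K ≤ Q :=
    pgroup_le_of_relIndex hq inf_le_left hQσ (hσM.trans hMQ)
      (IsPGroup.of_card (n := 1) (by rw [pow_one])) hQi
  have hKsF : Ks M K ≤ Cfsg.fittingHallOf M := hKsQ.trans hQF
  have hqf : q ∣ Nat.card ↥(Cfsg.fittingHallOf M) := Subgroup.card_dvd_of_le hKsF
  -- the `K`-invariant Hall subgroup `U₂`
  have hsolvM : Group.IsSolvable ↥M := hG.2.2.2 M hM.1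
  have hsolv : Group.IsSolvable ↥(Cfsg.sigmaCore M) :=
    Group.isSolvable_of_isSolvable_injective (Subgroup.inclusion_injective hσM)
  obtain ⟨U₂, hU₂hall, hKU₂⟩ := Cfsg.Agent.H1.exists_invariant_isPiHallOf K (Cfsg.sigmaCore M)
    (hKM.trans (le_normalizer_sigmaCore M))
    (Cfsg.Agent.Lib.Helper5.BG14Z.coprime_hall_sigmaCore hG hM hKU.hall) hsolv
    {r | ¬ r ∣ Nat.card ↥(Cfsg.fittingHallOf M)}
  obtain ⟨hU₂σ, hU₂π, hU₂i⟩ := hU₂hall
  -- cardinalities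
  have hcopF : (Nat.card ↥(Cfsg.fittingHallOf M)).Coprime
      ((Cfsg.fittingHallOf M).relIndex (Cfsg.sigmaCore M)) :=
    coprime_relIndex_of_le hFσ hσM (Cfsg.Agent.Lib.Helper4.TypeP.fittingHallOf_coprime M)
  have e1 := Cfsg.Agent.H1.card_eq_relIndex_mul_card hFσ
  have e2 := Cfsg.Agent.H1.card_eq_relIndex_mul_card hU₂σ
  have hcardU₂ : Nat.card ↥U₂ = (Cfsg.fittingHallOf M).relIndex (Cfsg.sigmaCore M) := by
    apply hall_arith (f := Nat.card ↥(Cfsg.fittingHallOf M))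
      (i := U₂.relIndex (Cfsg.sigmaCore M)) (by rw [← e1, ← e2]) hcopF
    · intro p hp hd
      exact hU₂π p hp hd
    · intro p hp hd
      by_contra hnd
      exact hU₂i p hp hnd hd
  have hcopU₂ : (Nat.card ↥U₂).Coprime (Nat.card ↥(Cfsg.fittingHallOf M)) := by
    apply Nat.coprime_of_dvd
    intro p hp h2 h3
    exact hU₂π p hp h2 h3
  have hFU₂ : Cfsg.fittingHallOf M ⊓ U₂ = ⊥ :=
    (Subgroup.disjoint_of_coprime_natCard hcopU₂.symm).eq_bot
  have hU₂nF : U₂ ≤ Subgroup.normalizer (Cfsg.fittingHallOf M : Set G) :=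
    (hU₂σ.trans hσM).trans (Cfsg.Agent.Lib.Helper4.TypeP.le_normalizer_fittingHallOf M)
  have hsup : U₂ ⊔ Cfsg.fittingHallOf M = Cfsg.sigmaCore M := by
    apply Subgroup.eq_of_le_of_card_ge (sup_le hU₂σ hFσ)
    have h3 := Cfsg.Agent.H1.card_sup_mul_card_inf U₂ (Cfsg.fittingHallOf M) hU₂nF
    rw [inf_comm, hFU₂, Subgroup.card_bot, mul_one] at h3
    rw [h3, hcardU₂, ← e1]
  have hc : Cfsg.IsComplIn (Cfsg.fittingHallOf M) U₂ ⁅M, M⁆ := by
    rw [h65]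
    refine ⟨hFσ, hU₂σ, hFU₂, ?_⟩
    intro m hm
    rw [← hsup, sup_comm] at hm
    exact (Cfsg.Agent.H1.mem_sup_of_le_normalizer (Cfsg.fittingHallOf M) U₂ hU₂nF).mp hm
  have hU₂1 : U₂ ≠ ⊥ := by
    intro h0
    apply hne
    rw [← hsup, h0, bot_sup_eq]
  -- `U₂` is nilpotent
  have hU₂nil : Group.IsNilpotent ↥U₂ := by
    obtain ⟨D, hDc⟩ := Cfsg.Agent.H2.BG15.exists_complIn hq hQσ (hσM.trans hMQ) hQp hQi
    have hDnil := hD D hDc
    have hcard := Cfsg.Agent.Lib.BG127H7.card_of_isComplIn hDc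
    have f1 := Cfsg.Agent.H1.card_eq_relIndex_mul_card hDc.1
    have f2 := Cfsg.Agent.H1.card_eq_relIndex_mul_card hDc.2.1
    have hposQ : 0 < Nat.card ↥Q := Nat.card_pos
    have hposD : 0 < Nat.card ↥D := Nat.card_pos
    have g1 : Q.relIndex (Cfsg.sigmaCore M) = Nat.card ↥D := by
      have : Q.relIndex (Cfsg.sigmaCore M) * Nat.card ↥Q = Nat.card ↥D * Nat.card ↥Q := by
        rw [← f1, hcard, mul_comm]
      exact Nat.eq_of_mul_eq_mul_right hposQ this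
    have g2 : D.relIndex (Cfsg.sigmaCore M) = Nat.card ↥Q := by
      have : D.relIndex (Cfsg.sigmaCore M) * Nat.card ↥D = Nat.card ↥Q * Nat.card ↥D := by
        rw [← f2, hcard]
      exact Nat.eq_of_mul_eq_mul_right hposD this
    have hDhall : Cfsg.IsPiHallOf {r | r ≠ q} D (Cfsg.sigmaCore M) := by
      refine ⟨hDc.2.1, ?_, ?_⟩
      · intro p hp hd hpq
        apply hQi
        rw [g1]
        have : p = q := hpq
        rw [← this]
        exact hd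
      · intro p hp hpq hd
        rw [g2] at hd
        haveI : Fact q.Prime := ⟨hq⟩
        obtain ⟨k, hk⟩ := hQp.exists_card_eq
        rw [hk] at hd
        have := (Nat.prime_dvd_prime_iff_eq hp hq).mp (hp.dvd_of_dvd_pow hd)
        exact hpq this
    have hU₂num : Cfsg.Agent.H1.PiNum {r | r ≠ q} (Nat.card ↥U₂) := by
      intro p hp hd hpq
      apply hU₂π p hp hd
      have : p = q := hpq
      rw [this]
      exact hqf
    obtain ⟨g, hg, hle⟩ := Cfsg.Agent.H1.isPiHallOf_dominance {r | r ≠ q} D (Cfsg.sigmaCore M) U₂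
      hsolv hDhall hU₂σ hU₂num
    have hgD : Group.IsNilpotent ↥(D.map (MulAut.conj g).toMonoidHom) := by
      haveI := hDnil
      exact Group.nilpotent_of_mulEquiv (D.equivMapOfInjective
        (MulAut.conj g).toMonoidHom (MulAut.conj g).injective)
    exact Cfsg.Agent.Lib.Helper4.TypeP.isNilpotent_of_le hle hgD
  have hP : Cfsg.IsTypePWith M K U₂ (Ks M K) :=
    isTypePWith_of hG hM hKU hK1 h56 hKsF hU₂nil hKU₂ hc
  have hcopU₂' : (Nat.card ↥U₂).Coprime (U₂.relIndex (Cfsg.sigmaCore M)) := by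
    apply Nat.coprime_of_dvd
    intro p hp h2 h3
    exact hU₂i p hp (hU₂π p hp h2) h3
  have hN : Subgroup.normalizer (U₂ : Set G) ≤ M :=
    normalizer_le_of_nilpotent_hall hG hM hU₂σ hU₂1 hU₂nil hcopU₂'
  by_cases hab : IsMulCommutative ↥U₂
  · left
    exact ⟨K, U₂, Ks M K, hP, hU₂1, hKp, hTI, hab, hN⟩
  · right
    exact ⟨K, U₂, Ks M K, hP, hU₂1, hKp, hTI, hab, hN⟩

end Cfsg.Agent.H2.BG16
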