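import Mathlib
import Cfsg.Agent.H2.BG16.B
import Cfsg.Agent.H2.BG12.G

/-!
# B&G Section 16 (helper2), part D: the case `K ≠ 1` of S1360 (a cyclic subgroup `U₀ ≤ U` of full
exponent acting regularly on `M_σ`), and S1381
-/

set_option autoImplicit false
set_option linter.unusedVariables false
set_option linter.unusedSectionVars false
set_option linter.style.haveILetI false
set_option maxHeartbeats 1000000

open scoped commutatorElement Pointwise

namespace Cfsg.Agent.H2.BG16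

open Cfsg Cfsg.Agent.Lib.Helper8.BGTen Cfsg.Agent.H2.BG11 Cfsg.Agent.H2.BG14
open Cfsg.Agent.Lib.Helper7 (IsSylowIn exists_isSylowIn_ge)

universe u

variable {G : Type u} [Group G] [Finite G]

/-- an element of order coprime to `e` is a power of its `e`-th power -/
theorem mem_zpowers_pow_of_coprime {x : G} {e : ℕ} (h : (orderOf x).Coprime e) :
    x ∈ Subgroup.zpowers (x ^ e) := by
  have h1 : Subgroup.zpowers (x ^ e) ≤ Subgroup.zpowers x := by
    rw [Subgroup.zpowers_le]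
    exact Subgroup.pow_mem _ (Subgroup.mem_zpowers x) e
  have h2 : Subgroup.zpowers (x ^ e) = Subgroup.zpowers x := by
    apply Subgroup.eq_of_le_of_card_ge h1
    rw [Nat.card_zpowers, Nat.card_zpowers, h.orderOf_pow]
  rw [h2]
  exact Subgroup.mem_zpowers x

open Classical in
/-- the abstract repair lemma: in an abelian subgroup `U` with an element of order `n`, if every
"bad" prime can be repaired then some element `c` of order `n` has no bad prime -/
theorem exists_good_generator {U : Subgroup G} (hab : ∀ a ∈ U, ∀ b ∈ U, a * b = b * a)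
    (Bad : G → Prop) (hB1 : ∀ x' x : G, Bad x' → x ∈ Subgroup.zpowers x' → Bad x)
    {n : ℕ} (hn : n ≠ 0)
    (hrep : ∀ p : ℕ, p.Prime → p ∣ n → ∀ e ∈ U, orderOf e = p ^ n.factorization p →
      Bad (e ^ p ^ (n.factorization p - 1)) →
      ∃ d ∈ U, orderOf d = p ^ n.factorization p ∧ ¬ Bad (d ^ p ^ (n.factorization p - 1))) :
    ∀ k : ℕ, ∀ c ∈ U, orderOf c = n →
      (n.primeFactors.filter (fun q => Bad (c ^ (n / q)))).card ≤ k →
      ∃ c' ∈ U, orderOf c' = n ∧ ∀ q : ℕ, q.Prime → q ∣ n → ¬ Bad (c' ^ (n / q)) := by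
  intro k
  induction k with
  | zero =>
    intro c hc hcn hcard
    refine ⟨c, hc, hcn, fun q hq hqn hbad => ?_⟩
    have : q ∈ n.primeFactors.filter (fun q => Bad (c ^ (n / q))) := by
      rw [Finset.mem_filter]
      exact ⟨Nat.mem_primeFactors.mpr ⟨hq, hqn, hn⟩, hbad⟩
    have h0 := Nat.le_zero.mp hcard
    rw [Finset.card_eq_zero] at h0
    rw [h0] at this
    exact absurd this (Finset.notMem_empty q)
  | succ k ih =>
    intro c hc hcn hcard
    by_cases hemp : n.primeFactors.filter (fun q => Bad (c ^ (n / q))) = ∅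
    · exact ih c hc hcn (by rw [hemp]; simp)
    obtain ⟨p, hpmem⟩ := Finset.nonempty_iff_ne_empty.mpr hemp
    rw [Finset.mem_filter, Nat.mem_primeFactors] at hpmem
    obtain ⟨⟨hp, hpn, -⟩, hbad⟩ := hpmem
    set a := n.factorization p with ha
    set m := n / p ^ a with hm
    have hpa : p ^ a ∣ n := Nat.ordProj_dvd n p
    have hnm : p ^ a * m = n := Nat.ordProj_mul_ordCompl_eq_self n p
    have hcopm : p.Coprime m := Nat.coprime_ordCompl hp hn
    have ha1 : 1 ≤ a := (hp.dvd_iff_one_le_factorization hn).mp hpn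
    have hpa0 : p ^ a ≠ 0 := pow_ne_zero _ hp.pos.ne'
    have hm0 : m ≠ 0 := by
      intro h0
      rw [h0, mul_zero] at hnm
      exact hn hnm.symm
    -- `e := c ^ m` has order `p ^ a`
    have hmn : m ∣ n := Dvd.intro_left _ hnm
    have heo : orderOf (c ^ m) = p ^ a := by
      rw [orderOf_pow_of_dvd hm0 (hcn ▸ hmn), hcn]
      exact Nat.div_eq_of_eq_mul_left (Nat.pos_of_ne_zero hm0) hnm.symm
    have hnp : n / p = p ^ (a - 1) * m := by
      apply Nat.div_eq_of_eq_mul_right hp.pos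
      rw [← hnm, ← mul_assoc, ← pow_succ', Nat.sub_add_cancel ha1]
    have hex : (c ^ m) ^ p ^ (a - 1) = c ^ (n / p) := by
      rw [← pow_mul, hnp, mul_comm]
    obtain ⟨d, hd, hdo, hdgood⟩ := hrep p hp hpn (c ^ m) (U.pow_mem hc m) heo (by rw [hex]; exact hbad)
    -- the repaired element
    have hcomm : Commute (c ^ p ^ a) d := hab _ (U.pow_mem hc _) _ hd
    have hco : orderOf (c ^ p ^ a) = m := by
      rw [orderOf_pow_of_dvd hpa0 (hcn ▸ hpa), hcn]
    have hc'o : orderOf (c ^ p ^ a * d) = n := by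
      rw [hcomm.orderOf_mul_eq_mul_orderOf_of_coprime (by
        rw [hco, hdo]; exact (Nat.Coprime.pow_left a hcopm).symm), hco, hdo, mul_comm, hnm]
    have hc'U : c ^ p ^ a * d ∈ U := U.mul_mem (U.pow_mem hc _) hd
    apply ih (c ^ p ^ a * d) hc'U hc'o
    -- the bad set shrinks
    have hsub : n.primeFactors.filter (fun q => Bad ((c ^ p ^ a * d) ^ (n / q))) ⊆
        (n.primeFactors.filter (fun q => Bad (c ^ (n / q)))).erase p := by
      intro q hq
      rw [Finset.mem_filter, Nat.mem_primeFactors] at hq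
      obtain ⟨⟨hqp, hqn, -⟩, hqbad⟩ := hq
      rw [hcomm.mul_pow] at hqbad
      rw [Finset.mem_erase, Finset.mem_filter, Nat.mem_primeFactors]
      have hqne : q ≠ p := by
        intro hqp'
        rw [hqp'] at hqbad
        apply hdgood
        -- `(c ^ p ^ a) ^ (n / p) = 1`
        have h1 : (c ^ p ^ a) ^ (n / p) = 1 := by
          rw [← pow_mul, hnp, ← mul_assoc, ← pow_add,
            show a + (a - 1) = (a - 1) + a by omega, pow_add, mul_assoc, hnm, mul_comm, pow_mul,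
            ← hcn, pow_orderOf_eq_one, one_pow]
        rw [h1, one_mul, hnp, pow_mul] at hqbad
        apply hB1 _ _ hqbad
        apply mem_zpowers_pow_of_coprime
        have : orderOf (d ^ p ^ (a - 1)) ∣ p := by
          apply orderOf_dvd_of_pow_eq_one
          rw [← pow_mul, ← pow_succ, Nat.sub_add_cancel ha1, ← hdo, pow_orderOf_eq_one]
        exact Nat.Coprime.coprime_dvd_left this hcopm
      refine ⟨hqne, ⟨hqp, hqn, hn⟩, ?_⟩
      -- `d ^ (n / q) = 1`
      have hqm : q ∣ m := by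
        have : q ∣ p ^ a * m := hnm ▸ hqn
        rcases (Nat.Prime.dvd_mul hqp).mp this with h | h
        · exact absurd ((Nat.prime_dvd_prime_iff_eq hqp hp).mp (hqp.dvd_of_dvd_pow h)) hqne
        · exact h
      have hnq : n / q = p ^ a * (m / q) := by
        apply Nat.div_eq_of_eq_mul_right hqp.pos
        rw [← hnm, mul_left_comm, Nat.mul_div_cancel' hqm]
      have h1 : d ^ (n / q) = 1 := by
        rw [hnq, pow_mul, ← hdo, pow_orderOf_eq_one, one_pow]
      rw [h1, mul_one, ← pow_mul, mul_comm, pow_mul] at hqbad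
      apply hB1 _ _ hqbad
      apply mem_zpowers_pow_of_coprime
      have : orderOf (c ^ (n / q)) ∣ q := by
        apply orderOf_dvd_of_pow_eq_one
        rw [← pow_mul, Nat.div_mul_cancel hqn, ← hcn, pow_orderOf_eq_one]
      apply Nat.Coprime.coprime_dvd_left this
      apply Nat.Coprime.pow_right
      exact (Nat.coprime_primes hqp hp).mpr hqne
    have hpin : p ∈ n.primeFactors.filter (fun q => Bad (c ^ (n / q))) := by
      rw [Finset.mem_filter, Nat.mem_primeFactors]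
      exact ⟨⟨hp, hpn, hn⟩, hbad⟩
    have h1 := Finset.card_le_card hsub
    rw [Finset.card_erase_of_mem hpin] at h1
    omega

/-- for a good generator `c`, the cyclic group `⟨c⟩` contains no bad element `≠ 1` -/
theorem regular_of_good (Bad : G → Prop)
    (hB1 : ∀ x' x : G, Bad x' → x ∈ Subgroup.zpowers x' → Bad x) {c : G} {n : ℕ}
    (hcn : orderOf c = n) (hgood : ∀ q : ℕ, q.Prime → q ∣ n → ¬ Bad (c ^ (n / q))) :
    ∀ u ∈ Subgroup.zpowers c, Bad u → u = 1 := by
  intro u hu hbad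
  by_contra hu1
  have ho1 : orderOf u ≠ 1 := fun h => hu1 (orderOf_eq_one_iff.mp h)
  obtain ⟨q, hq, hqd⟩ := Nat.exists_prime_and_dvd ho1
  have hu'o : orderOf (u ^ (orderOf u / q)) = q :=
    orderOf_pow_orderOf_div (orderOf_pos u).ne' hqd
  have hbad' : Bad (u ^ (orderOf u / q)) :=
    hB1 u _ hbad (Subgroup.pow_mem _ (Subgroup.mem_zpowers u) _)
  have hu'c : u ^ (orderOf u / q) ∈ Subgroup.zpowers c := Subgroup.pow_mem _ hu _
  have hqn : q ∣ n := hqd.trans (hcn ▸ orderOf_dvd_of_mem_zpowers hu)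
  have hco : orderOf (c ^ (n / q)) = q := by
    rw [← hcn]
    exact orderOf_pow_orderOf_div (orderOf_pos c).ne' (hcn ▸ hqn)
  have hcyc : IsCyclic ↥(Subgroup.zpowers c) := inferInstance
  have hmem := Cfsg.Agent.Lib.Helper4.BG14.mem_zpowers_of_orderOf_eq_of_cyclic hcyc hq
    (Subgroup.pow_mem _ (Subgroup.mem_zpowers c) (n / q)) hu'c hco hu'o
  exact hgood q hq hqn (hB1 _ _ hbad' hmem)

/-- `U` is a Hall subgroup of `M` -/
theorem coprime_card_U_relIndex (hG : Cfsg.IsMinSimpleOddOrder G) {M K U : Subgroup G}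
    (hM : IsCoatom M) (hKU : Cfsg.IsSigmaDecomposition M K U) :
    (Nat.card ↥U).Coprime (U.relIndex M) := by
  have hcard := card_of_sigmaDecomposition hG hM hKU
  have h2 := Cfsg.Agent.H1.card_eq_relIndex_mul_card hKU.compl.1
  have hrel : U.relIndex M = Nat.card ↥K * Nat.card ↥(Cfsg.sigmaCore M) := by
    have hpos : 0 < Nat.card ↥U := Nat.card_pos
    have : U.relIndex M * Nat.card ↥U =
        (Nat.card ↥K * Nat.card ↥(Cfsg.sigmaCore M)) * Nat.card ↥U := by
      rw [← h2, hcard, mul_comm]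
    exact Nat.eq_of_mul_eq_mul_right hpos this
  rw [hrel]
  apply Nat.coprime_of_dvd
  intro q hq h1 h2
  rcases (Nat.Prime.dvd_mul hq).mp h2 with h | h
  · exact Cfsg.Agent.H2.BG12.not_mem_kappa_of_dvd_U hKU hq h1 (hKU.hall.2.1 q hq h)
  · exact Cfsg.Agent.H2.BG12.not_mem_sigma_of_dvd_U hG hM hKU hq h1
      (mem_sigma_of_dvd_sigmaCore hG hM hq h)

/-- the repair step: a bad `p`-part `e` of full exponent can be replaced by a good one -/
theorem repair (hG : Cfsg.IsMinSimpleOddOrder G) {M K U : Subgroup G} (hM : IsCoatom M)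
    (hKU : Cfsg.IsSigmaDecomposition M K U) (hab : ∀ a ∈ U, ∀ b ∈ U, a * b = b * a)
    {n : ℕ} (hn0 : n ≠ 0) (hn : ∀ u ∈ U, u ^ n = 1) {p : ℕ} (hp : p.Prime) (hpn : p ∣ n)
    {e : G} (he : e ∈ U) (heo : orderOf e = p ^ n.factorization p)
    (hbad : e ^ p ^ (n.factorization p - 1) ∈ Cfsg.sigmaHat M) :
    ∃ d ∈ U, orderOf d = p ^ n.factorization p ∧
      d ^ p ^ (n.factorization p - 1) ∉ Cfsg.sigmaHat M := by
  haveI : Fact p.Prime := ⟨hp⟩
  set a := n.factorization p with ha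
  have ha1 : 1 ≤ a := (hp.dvd_iff_one_le_factorization hn0).mp hpn
  have hUM : U ≤ M := hKU.compl.1
  set x := e ^ p ^ (a - 1) with hx
  have hxo : orderOf x = p := by
    have hd : p ^ (a - 1) ∣ orderOf e := by rw [heo]; exact pow_dvd_pow p (Nat.sub_le a 1)
    rw [hx, orderOf_pow_of_dvd (pow_ne_zero _ hp.pos.ne') hd, heo]
    apply Nat.div_eq_of_eq_mul_left (pow_pos hp.pos _)
    rw [← pow_succ', Nat.sub_add_cancel ha1]
  have hxU : x ∈ U := U.pow_mem he _
  have hxM : x ∈ M := hUM hxU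
  obtain ⟨-, y, hy, hy1, hxy⟩ := hbad
  have hpU : p ∣ Nat.card ↥U := hxo ▸ Subgroup.orderOf_dvd_natCard U hxU
  have hpσ := Cfsg.Agent.H2.BG12.not_mem_sigma_of_dvd_U hG hM hKU hp hpU
  have hpκ := Cfsg.Agent.H2.BG12.not_mem_kappa_of_dvd_U hKU hp hpU
  have hTc : Nat.card ↥(Subgroup.zpowers x) = p := by rw [Nat.card_zpowers, hxo]
  have hTM : Subgroup.zpowers x ≤ M := by rw [Subgroup.zpowers_le]; exact hxM
  have hycent : y ∈ Subgroup.centralizer (Subgroup.zpowers x : Set G) := by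
    rw [Subgroup.mem_centralizer_iff]
    intro z hz
    obtain ⟨k, rfl⟩ := Subgroup.mem_zpowers_iff.mp hz
    have hc : Commute x y := hxy
    exact (hc.zpow_left k).eq
  have hfix : Cfsg.sigmaCore M ⊓ Subgroup.centralizer (Subgroup.zpowers x : Set G) ≠ ⊥ := by
    intro h0
    apply hy1
    have : y ∈ Cfsg.sigmaCore M ⊓ Subgroup.centralizer (Subgroup.zpowers x : Set G) :=
      ⟨hy, hycent⟩
    rw [h0] at this
    exact Subgroup.mem_bot.mp this
  have hrk1 : ¬ Cfsg.PRankLE p 1 ↥M := fun hrk =>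
    hpκ (Cfsg.Agent.Lib.Helper4.BG14.mem_kappa_of_fixed hG hpσ hrk hTM hTc hfix)
  have hrk2 : Cfsg.PRankLE p 2 ↥M := by
    by_contra h
    exact hpσ (alpha_subset_sigma hG (Cfsg.Agent.H2.BG11.uniq hG) hM ⟨hp, h⟩)
  have hτ2 : p ∈ Cfsg.tau2 M := ⟨hp, hpσ, hrk2, hrk1⟩
  -- the Sylow `p`-subgroup `P` of `U`
  have hzp : IsPGroup p ↥(Subgroup.zpowers e) :=
    IsPGroup.of_card (n := a) (by rw [Nat.card_zpowers, heo])
  obtain ⟨P, hPU, hzP⟩ := exists_isSylowIn_ge (p := p) (Q := Subgroup.zpowers e) (H := U) hzp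
    (by rw [Subgroup.zpowers_le]; exact he)
  have heP : e ∈ P := hzP (Subgroup.mem_zpowers e)
  have hxP : x ∈ P := P.pow_mem heP _
  have hPM : IsSylowIn p P M :=
    Cfsg.Agent.H2.BG15.isSylowIn_of_hall hUM (coprime_card_U_relIndex hG hM hKU) hpU hPU
  have hPp : IsPGroup p ↥P := IsPGroup.of_card hPU.2
  have hPexp : ∀ u ∈ P, u ^ p ^ a = 1 := by
    intro u hu
    obtain ⟨j, hj⟩ := (IsPGroup.iff_orderOf.mp hPp) ⟨u, hu⟩
    rw [Subgroup.orderOf_mk] at hj
    have h1 : orderOf u ∣ n := orderOf_dvd_of_pow_eq_one (hn u (hPU.1 hu))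
    rw [hj] at h1
    have h2 : j ≤ a := (hp.pow_dvd_iff_le_factorization hn0).mp h1
    apply orderOf_dvd_iff_pow_eq_one.mp
    rw [hj]
    exact pow_dvd_pow p h2
  have hcommP : ∀ u ∈ P, ∀ v ∈ P, u * v = v * u := fun u hu v hv =>
    hab u (hPU.1 hu) v (hPU.1 hv)
  -- the `E_{p²}`
  obtain ⟨A', hA'M, hA'e, hA'c⟩ := Cfsg.Agent.H2.BG12.exists_elem_sq hrk1
  have hA'p : IsPGroup p ↥A' := IsPGroup.of_card hA'c
  obtain ⟨g, hgM, hconj⟩ := hPM.exists_conj_le hA'p hA'M
  have hAP : cj g A' ≤ P := by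
    rintro _ ⟨β, hβ, rfl⟩
    exact hconj β hβ
  have hAM : cj g A' ≤ M := hAP.trans hPM.1
  have hAe : Cfsg.IsElementaryAbelian p (cj g A') :=
    Cfsg.Agent.Lib.Helper4.BGUniq.isElementaryAbelian_map _ hA'e
  have hAc : Nat.card ↥(cj g A') = p ^ 2 := by rw [card_cj]; exact hA'c
  obtain ⟨R, hR⟩ := hPM.exists_sylow_map
  obtain ⟨-, h17b, -, -, -, A₁, hA₁A, hA₁c, hA₁reg⟩ :=
    Cfsg.Agent.S1417.result hG M hM p hτ2 (cj g A') ⟨hAM, hAe, hAc⟩
  obtain ⟨-, h17b'⟩ := h17b R
  rw [hR] at h17b'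
  obtain ⟨hΩ, hNP⟩ := h17b' hAP
  by_cases hex : ∃ d ∈ P, d ^ p ^ (a - 1) ∈ A₁ ∧ d ^ p ^ (a - 1) ≠ 1
  · obtain ⟨d, hdP, hdA₁, hd1⟩ := hex
    refine ⟨d, hPU.1 hdP, ?_, ?_⟩
    · have := orderOf_eq_prime_pow (x := d) (p := p) (n := a - 1) hd1
        (by rw [Nat.sub_add_cancel ha1]; exact hPexp d hdP)
      rwa [Nat.sub_add_cancel ha1] at this
    · rintro ⟨-, y', hy', hy'1, hcomm⟩
      apply hy'1
      have hzo : orderOf (d ^ p ^ (a - 1)) = p := by
        apply orderOf_eq_prime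
        · rw [← pow_mul, ← pow_succ, Nat.sub_add_cancel ha1]; exact hPexp d hdP
        · exact hd1
      have hA₁eq : Subgroup.zpowers (d ^ p ^ (a - 1)) = A₁ := by
        apply Subgroup.eq_of_le_of_card_ge (by rw [Subgroup.zpowers_le]; exact hdA₁)
        rw [hA₁c, Nat.card_zpowers, hzo]
      have : y' ∈ Cfsg.sigmaCore M ⊓ Subgroup.centralizer (A₁ : Set G) := by
        refine ⟨hy', ?_⟩
        rw [← hA₁eq]
        apply Subgroup.mem_centralizer_iff.mpr
        intro z hz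
        obtain ⟨k, rfl⟩ := Subgroup.mem_zpowers_iff.mp hz
        have hc : Commute (d ^ p ^ (a - 1)) y' := hcomm
        exact (hc.zpow_left k).eq
      rw [hA₁reg] at this
      exact Subgroup.mem_bot.mp this
  · push Not at hex
    exfalso
    apply hNP
    -- the subgroup `V = ℧^{a-1}(P)`
    let V : Subgroup G :=
      { carrier := {v | ∃ u ∈ P, u ^ p ^ (a - 1) = v}
        mul_mem' := by
          rintro _ _ ⟨u, hu, rfl⟩ ⟨v, hv, rfl⟩
          refine ⟨u * v, P.mul_mem hu hv, ?_⟩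
          have hc : Commute u v := hcommP u hu v hv
          exact hc.mul_pow _
        one_mem' := ⟨1, P.one_mem, one_pow _⟩
        inv_mem' := by
          rintro _ ⟨u, hu, rfl⟩
          exact ⟨u⁻¹, P.inv_mem hu, inv_pow u _⟩ }
    have hmemV : ∀ v, v ∈ V ↔ ∃ u ∈ P, u ^ p ^ (a - 1) = v := fun v => Iff.rfl
    have hVP : V ≤ P := by
      rintro _ ⟨u, hu, rfl⟩
      exact P.pow_mem hu _
    have hVA : V ≤ cj g A' := by
      rintro _ ⟨u, hu, rfl⟩
      refine (hΩ _ (P.pow_mem hu _)).mp ?_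
      rw [← pow_mul, ← pow_succ, Nat.sub_add_cancel ha1]
      exact hPexp u hu
    have hVA₁ : V ⊓ A₁ = ⊥ := by
      rw [eq_bot_iff]
      rintro v ⟨⟨u, hu, rfl⟩, hvA₁⟩
      exact Subgroup.mem_bot.mpr (hex u hu hvA₁)
    have hxV : x ∈ V := ⟨e, heP, rfl⟩
    have hA₁P : A₁ ≤ P := hA₁A.trans hAP
    have hVn : V ≤ Subgroup.normalizer (A₁ : Set G) := by
      intro v hv
      rw [Subgroup.mem_normalizer_iff]
      intro w
      constructor
      · intro hw
        have : v * w * v⁻¹ = w := by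
          rw [hcommP v (hVP hv) w (hA₁P hw)]; group
        rw [this]; exact hw
      · intro hw
        have h1 : v * w * v⁻¹ ∈ P := hA₁P hw
        have h2 : w = v⁻¹ * (v * w * v⁻¹) * v := by group
        have h3 : v⁻¹ * (v * w * v⁻¹) * v = v * w * v⁻¹ := by
          rw [hcommP v⁻¹ (P.inv_mem (hVP hv)) _ h1]; group
        rw [h2, h3]; exact hw
    have hVcard : Nat.card ↥V = p := by
      have h1 := Cfsg.Agent.H1.card_sup_mul_card_inf V A₁ hVn
      rw [hVA₁, Subgroup.card_bot, mul_one, hA₁c] at h1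
      have h2 : Nat.card ↥(V ⊔ A₁) ≤ p ^ 2 := by
        rw [← hAc]
        exact Subgroup.card_le_of_le (sup_le hVA hA₁A)
      have h3 : Nat.card ↥V ≤ p := by
        rw [h1, pow_two] at h2
        exact Nat.le_of_mul_le_mul_right h2 hp.pos
      have h4 : p ∣ Nat.card ↥V := hxo ▸ Subgroup.orderOf_dvd_natCard V hxV
      exact le_antisymm h3 (Nat.le_of_dvd Nat.card_pos h4)
    have hVeq : Subgroup.zpowers x = V := by
      apply Subgroup.eq_of_le_of_card_ge (by rw [Subgroup.zpowers_le]; exact hxV)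
      rw [hVcard, hTc]
    have hNV : Subgroup.normalizer (P : Set G) ≤ Subgroup.normalizer (V : Set G) := by
      intro t ht
      rw [Subgroup.mem_normalizer_iff]
      intro w
      constructor
      · rintro ⟨u, hu, rfl⟩
        exact ⟨t * u * t⁻¹, (Subgroup.mem_normalizer_iff.mp ht u).mp hu, by rw [conj_pow]⟩
      · rintro ⟨u, hu, huw⟩
        refine ⟨t⁻¹ * u * t, ?_, ?_⟩
        · have := (Subgroup.mem_normalizer_iff.mp (Subgroup.inv_mem _ ht) u).mp hu
          rwa [inv_inv] at this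
        · have : (t⁻¹ * u * t) ^ p ^ (a - 1) = t⁻¹ * u ^ p ^ (a - 1) * t := by
            have := conj_pow (a := t⁻¹) (b := u) (i := p ^ (a - 1))
            rwa [inv_inv] at this
          rw [this, huw]; group
    have hfixV : Cfsg.sigmaCore M ⊓ Subgroup.centralizer (V : Set G) ≠ ⊥ := by
      rw [← hVeq]; exact hfix
    exact hNV.trans (Cfsg.Agent.Lib.Helper7.BG14P.normalizer_le_of_tau2_fixed hG hM hτ2
      (hVA.trans hAM) hVcard hfixV).1

/-- **the case `K ≠ 1` of S1360**: a cyclic subgroup `U₀ ≤ U` of full exponent acting regularly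
on `M_σ` -/
theorem exists_regular_of_K_ne_bot (hG : Cfsg.IsMinSimpleOddOrder G) {M K U : Subgroup G}
    (hM : IsCoatom M) (hKU : Cfsg.IsSigmaDecomposition M K U) (hK1 : K ≠ ⊥) :
    ∃ U₀ : Subgroup G, U₀ ≤ U ∧ Monoid.exponent ↥U₀ = Monoid.exponent ↥U ∧
      ∀ u ∈ U₀, u ∈ Cfsg.sigmaHat M → u = 1 := by
  have h63 := Cfsg.Agent.Lib.Helper7.BG14P.s1363 hG hM hKU hK1
  have hab : ∀ a ∈ U, ∀ b ∈ U, a * b = b * a := by
    intro a ha b hb
    haveI := h63.1
    have := mul_comm' (⟨a, ha⟩ : ↥U) ⟨b, hb⟩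
    exact congrArg Subtype.val this
  have hn0 : Monoid.exponent ↥U ≠ 0 := Monoid.exponent_ne_zero_of_finite
  have hn : ∀ u ∈ U, u ^ Monoid.exponent ↥U = 1 := by
    intro u hu
    have := Monoid.pow_exponent_eq_one (⟨u, hu⟩ : ↥U)
    have h2 := congrArg Subtype.val this
    simpa using h2
  obtain ⟨c₀, hc₀U, hc₀n⟩ : ∃ c₀ ∈ U, orderOf c₀ = Monoid.exponent ↥U := by
    letI : CommGroup ↥U := { (inferInstance : Group ↥U) with
      mul_comm := fun a b => Subtype.ext (hab a a.2 b b.2) }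
    obtain ⟨c₀, hc₀⟩ := Monoid.exists_orderOf_eq_exponent (G := ↥U) Monoid.ExponentExists.of_finite
    refine ⟨(c₀ : G), c₀.2, ?_⟩
    rw [Subgroup.orderOf_coe]
    exact hc₀
  have hB1 : ∀ x' x : G, x' ∈ Cfsg.sigmaHat M → x ∈ Subgroup.zpowers x' → x ∈ Cfsg.sigmaHat M := by
    rintro x' x ⟨hx'M, y, hy, hy1, hc⟩ hx
    obtain ⟨k, rfl⟩ := Subgroup.mem_zpowers_iff.mp hx
    refine ⟨M.zpow_mem hx'M k, y, hy, hy1, ?_⟩
    have hc' : Commute x' y := hc
    exact (hc'.zpow_left k).eq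
  obtain ⟨c, hcU, hcn, hgood⟩ := exists_good_generator hab (fun x => x ∈ Cfsg.sigmaHat M) hB1 hn0
    (fun p hp hpn e he heo hbad => repair hG hM hKU hab hn0 hn hp hpn he heo hbad) _ c₀ hc₀U hc₀n
    le_rfl
  refine ⟨Subgroup.zpowers c, by rw [Subgroup.zpowers_le]; exact hcU, ?_,
    regular_of_good (fun x => x ∈ Cfsg.sigmaHat M) hB1 hcn hgood⟩
  rw [IsCyclic.exponent_eq_card, Nat.card_zpowers, hcn]

/-- **S1381 (⇐)**, given the TI-property of `F(M)` (S1372) -/
theorem s1381_mpr' (hG : Cfsg.IsMinSimpleOddOrder G) {M K U : Subgroup G} (hM : IsCoatom M)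
    (hKU : Cfsg.IsSigmaDecomposition M K U) (hK1 : K ≠ ⊥) (hU1 : U ≠ ⊥)
    (hTI : Cfsg.IsTISubset (Cfsg.fittingOf M : Set G)) : Cfsg.IsOfTypeII M :=
  s1381_mpr hG hM hKU hK1 hU1 hTI (exists_regular_of_K_ne_bot hG hM hKU hK1)

end Cfsg.Agent.H2.BG16
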